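import Groth.Agent.Lib.AlgSpDescent.Instances
import Groth.Agent.Lib.AlgSpace.LocP
import Groth.Agent.Lib.AlgSpace.Points
import Groth.Prelude.Def_AlgSpCov
import Groth.Prelude.Def_AlgSpEt

/-!
# The small étale site inside the big site of algebraic spaces
-/

universe u

set_option backward.isDefEq.respectTransparency.types false

open CategoryTheory CategoryTheory.Limits AlgebraicGeometry Opposite

namespace Groth.Agent.SpacesSite15

open AlgSp Groth.Agent.AlgSpace Groth.Agent.AlgSpDecent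

variable {S : Scheme.{u}}

/-- Sieves through which every scheme lifts étale locally. -/
def locTop (S : Scheme.{u}) : GrothendieckTopology (Space S) where
  sieves Z := {R | ∀ (T : Over S) (φ : (ofScheme S).obj T ⟶ Z) (t : ↥T.left),
    ∃ (W : Over S) (p : W ⟶ T), Etale p.left ∧ t ∈ Set.range p.left ∧ R ((ofScheme S).map p ≫ φ)}
  top_mem' Z T φ t := ⟨T, 𝟙 _, inferInstanceAs (Etale (𝟙 T.left)), ⟨t, rfl⟩, trivial⟩
  pullback_stable' Z Z' R g hR T φ t := by
    obtain ⟨W, p, hp, ht, h⟩ := hR T (φ ≫ g) t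
    exact ⟨W, p, hp, ht, by simpa [Category.assoc] using h⟩
  transitive' Z R hR R' h T φ t := by
    obtain ⟨W, p, hp, ⟨w, rfl⟩, hw⟩ := hR T φ t
    obtain ⟨W', q, hq, ⟨w', hw'⟩, hw2⟩ := h hw W (𝟙 _) w
    refine ⟨W', q ≫ p, ?_, ⟨w', by rw [Over.comp_left, Scheme.Hom.comp_apply, hw']⟩, ?_⟩
    · rw [Over.comp_left]; infer_instance
    · simpa [Category.assoc] using hw2

theorem spacesTop_le : spacesTop S IsEtaleMor ≤ locTop S := by
  refine Precoverage.toGrothendieck_le_iff_le_toPrecoverage.2 fun Z R hR => ?_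
  rw [GrothendieckTopology.mem_toPrecoverage_iff]
  intro T φ t
  obtain ⟨hP, hsurj⟩ := (mem_spacesPre_iff IsEtaleMor R).1 hR
  obtain ⟨Y, g, hg, y, hy⟩ := hsurj (Points.ofPt φ.hom t)
  have sq := IsPullback.of_hasPullback g.hom φ.hom
  have hPa : IsAlgSpace (pullback g.hom φ.hom) :=
    isAlgSpace_pullback Z.property Y.property (IsAlgSpace.yon_obj T) sq
  obtain ⟨v, -, hv⟩ := exists_point_lift sq y (Points.ofScheme T t)
    (hy.trans (Points.ofPt_eq_map_ofScheme φ.hom t))
  obtain ⟨W, w, hwe, hws⟩ := hPa.atlas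
  obtain ⟨x, rfl⟩ := surjective_ofPt hws v
  obtain ⟨p, hp⟩ := (yon S).map_surjective (w ≫ pullback.snd g.hom φ.hom)
  have hsnd : IsEtaleMor (pullback.snd g.hom φ.hom) :=
    (AlgSpDescent.isEtaleMor_iff_locP hPa (IsAlgSpace.yon_obj T) _).2
      (locP_of_isPullback Y.property Z.property (IsAlgSpace.yon_obj T) sq
        ((AlgSpDescent.isEtaleMor_iff_locP Y.property Z.property _).1 (hP g hg)))
  refine ⟨W, p, ?_, ⟨x, ?_⟩, ?_⟩
  · exact (repWith_yon_map_iff _ _).1 (by rw [hp]; exact hsnd w hwe)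
  · refine (Points.schemeEquiv T).injective ?_
    rw [Points.map_ofPt] at hv
    exact ((ofPt_map_eq p x).symm.trans ((congrArg (fun a => Points.ofPt a x) hp).trans hv))
  · let l : (ofScheme S).obj W ⟶ Y := ObjectProperty.homMk (w ≫ pullback.fst g.hom φ.hom)
    refine ⟨Y, l, g, hg, ObjectProperty.hom_ext _ ?_⟩
    change (w ≫ pullback.fst g.hom φ.hom) ≫ g.hom = (yon S).map p ≫ φ.hom
    exact ((Category.assoc _ _ _).trans ((congrArg (w ≫ ·) sq.w).trans (Category.assoc _ _ _).symm)).trans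
      (congrArg (· ≫ φ.hom) hp.symm)

variable {X Y : Space S} (f : Y ⟶ X)

/-- The functor to the big site of `X`. -/
noncomputable abbrev G : EtOver Y.obj ⥤ Over X :=
  EtOver.toEtSpOver Y ⋙ ObjectProperty.ι (fun E : Over Y => IsEtaleMor E.hom.hom) ⋙ Over.map f

theorem isCocontinuous : (G f).IsCocontinuous (etTop Y.obj) (spacesTopOver IsEtaleMor X) := by
  refine ⟨fun {E} R hR => ?_⟩
  rw [GrothendieckTopology.mem_over_iff] at hR
  have h := spacesTop_le _ hR
  have key : ∀ u : ↥E.obj.left.left, ∃ (Z : EtOver Y.obj) (g : Z ⟶ E),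
      R ((G f).map g) ∧ u ∈ Set.range g.hom.left.left := by
    intro u
    obtain ⟨W, p, hp, hu, hR'⟩ := h E.obj.left (𝟙 _) u
    let Z : EtOver Y.obj := EtOver.mk ((yon S).map p ≫ E.obj.hom)
      ((repWith_isMultiplicative (S := S) @Etale).comp_mem _ _ ((repWith_yon_map_iff _ _).2 hp) E.property)
    refine ⟨Z, EtOver.homMk p rfl, ?_, hu⟩
    have h1 := (Sieve.overEquiv_iff _ _).1 hR'
    let c : (G f).obj Z ⟶ Over.mk (((ofScheme S).map p ≫ 𝟙 _) ≫ ((G f).obj E).hom) :=
      Over.homMk (𝟙 _) (by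
        apply ObjectProperty.hom_ext
        change 𝟙 _ ≫ ((yon S).map p ≫ 𝟙 _) ≫ E.obj.hom ≫ f.hom = ((yon S).map p ≫ E.obj.hom) ≫ f.hom
        simp)
    convert! R.downward_closed h1 c using 1
  choose Z g hg hu using key
  refine (etTop Y.obj).superset_covering ((Sieve.generate_le_iff _ _).2 fun _ _ ⟨u⟩ => hg u)
    (ofArrows_mem_etTop Z g fun u => ⟨u, hu u⟩)

theorem compatiblePreserving : CompatiblePreserving (spacesTopOver IsEtaleMor X) (G f) where
  compatible {ℱ Z T x hx Y₁ Y₂ W f₁ f₂ g₁ g₂ hg₁ hg₂ he} := by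
    have sq : IsPullback ((yon S).map (EtOver.pullbackFst g₁ g₂).hom.left)
        ((yon S).map (EtOver.pullbackSnd g₁ g₂).hom.left) ((yon S).map g₁.hom.left) ((yon S).map g₂.hom.left) :=
      (IsPullback.of_hasPullback g₁.hom.left g₂.hom.left).map (yon S)
    have he' : f₁.left.hom ≫ (yon S).map g₁.hom.left = f₂.left.hom ≫ (yon S).map g₂.hom.left :=
      congrArg (fun k => k.left.hom) he
    let m₀ := sq.lift f₁.left.hom f₂.left.hom he'
    let P := EtOver.pullbackObj g₁ g₂
    let m : W ⟶ (G f).obj P := Over.homMk (ObjectProperty.homMk m₀) (by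
      apply ObjectProperty.hom_ext
      change m₀ ≫ P.obj.hom ≫ f.hom = W.hom.hom
      rw [show P.obj.hom = (yon S).map (EtOver.pullbackFst g₁ g₂).hom.left ≫ Y₁.obj.hom from
        (EtOver.w (EtOver.pullbackFst g₁ g₂)).symm, Category.assoc, sq.lift_fst_assoc]
      exact congrArg InducedCategory.Hom.hom (Over.w f₁))
    have h₁ : f₁ = m ≫ (G f).map (EtOver.pullbackFst g₁ g₂) :=
      Over.OverMorphism.ext (ObjectProperty.hom_ext _ (sq.lift_fst _ _ _).symm)
    have h₂ : f₂ = m ≫ (G f).map (EtOver.pullbackSnd g₁ g₂) :=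
      Over.OverMorphism.ext (ObjectProperty.hom_ext _ (sq.lift_snd _ _ _).symm)
    rw [h₁, h₂, op_comp, op_comp, Functor.map_comp, Functor.map_comp, ConcreteCategory.comp_apply,
      ConcreteCategory.comp_apply]
    exact congrArg _ (hx (EtOver.pullbackFst g₁ g₂) (EtOver.pullbackSnd g₁ g₂) hg₁ hg₂
      (EtOver.isPullback g₁ g₂).w)

theorem coverPreserving : CoverPreserving (etTop Y.obj) (spacesTopOver IsEtaleMor X) (G f) where
  cover_preserve {E R} hR := by
    rw [GrothendieckTopology.mem_over_iff]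
    obtain ⟨R₀, hR₀, hle⟩ := Precoverage.mem_toGrothendieck_iff_of_isStableUnderComposition.1 hR
    obtain ⟨ι, Z, g, rfl⟩ := R₀.exists_eq_ofArrows
    have hcov := (ofArrows_mem_etPre_iff Z g).1 hR₀
    have hmem : Presieve.ofArrows (fun i => (ofScheme S).obj (Z i).obj.left)
        (fun i => (ofScheme S).map (g i).hom.left) ∈ spacesPre S IsEtaleMor ((ofScheme S).obj E.obj.left) := by
      refine (mem_spacesPre_iff IsEtaleMor _).2 ⟨?_, fun x => ?_⟩
      · rintro _ _ ⟨i⟩
        exact (isEtaleMor_yon_map_iff _).2 (EtOver.etale_left (g i))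
      · obtain ⟨e, rfl⟩ := (Points.schemeEquiv E.obj.left).surjective x
        obtain ⟨i, z, hz⟩ := hcov e
        refine ⟨_, _, Presieve.ofArrows.mk i, Points.ofScheme (Z i).obj.left z, ?_⟩
        change Points.map ((yon S).map (g i).hom.left) _ = Points.ofScheme E.obj.left e
        rw [← Points.ofPt_eq_map_ofScheme, ofPt_map_eq, hz]
    refine (spacesTop S IsEtaleMor).superset_covering ((Sieve.generate_le_iff _ _).2 ?_)
      (Precoverage.generate_mem_toGrothendieck hmem)
    rintro _ _ ⟨i⟩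
    refine (Sieve.overEquiv_iff _ _).2 ⟨Z i, g i, Over.homMk (𝟙 _) ?_, hle (Z i) (g i) (Presieve.ofArrows.mk i), ?_⟩
    · apply ObjectProperty.hom_ext
      change 𝟙 _ ≫ (Z i).obj.hom ≫ f.hom = (yon S).map (g i).hom.left ≫ E.obj.hom ≫ f.hom
      rw [Category.id_comp, ← EtOver.w (g i), Category.assoc]
    · apply Over.OverMorphism.ext
      apply ObjectProperty.hom_ext
      exact (Category.id_comp _).symm

theorem isContinuous : (G f).IsContinuous (etTop Y.obj) (spacesTopOver IsEtaleMor X) :=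
  Functor.isContinuous_of_coverPreserving (compatiblePreserving f) (coverPreserving f)

end Groth.Agent.SpacesSite15
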